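import Mathlib
import Cfsg.Agent.H48.F4Graph.WeylData

/-!
# Kernel checks on the table of the Weyl group of type F4
-/

set_option autoImplicit false
set_option maxRecDepth 100000

namespace Cfsg.Agent.H48.F4Graph

/-- Coordinates on the root lattice. -/
abbrev V4 : Type := ℤ × ℤ × ℤ × ℤ

/-- A linear map, by the images of the unit vectors. -/
abbrev M4 : Type := V4 × V4 × V4 × V4

/-- Apply a map to a vector. -/
def app (M : M4) (v : V4) : V4 :=
  (v.1 * M.1.1 + v.2.1 * M.2.1.1 + v.2.2.1 * M.2.2.1.1 + v.2.2.2 * M.2.2.2.1,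
   v.1 * M.1.2.1 + v.2.1 * M.2.1.2.1 + v.2.2.1 * M.2.2.1.2.1 + v.2.2.2 * M.2.2.2.2.1,
   v.1 * M.1.2.2.1 + v.2.1 * M.2.1.2.2.1 + v.2.2.1 * M.2.2.1.2.2.1 + v.2.2.2 * M.2.2.2.2.2.1,
   v.1 * M.1.2.2.2 + v.2.1 * M.2.1.2.2.2 + v.2.2.1 * M.2.2.1.2.2.2 + v.2.2.2 * M.2.2.2.2.2.2)

/-- A linear combination of two vectors. -/
def comb (a : ℤ) (v : V4) (b : ℤ) (w : V4) : V4 :=
  (a * v.1 + b * w.1, a * v.2.1 + b * w.2.1, a * v.2.2.1 + b * w.2.2.1, a * v.2.2.2 + b * w.2.2.2)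

/-- The fundamental reflections. -/
def refl4 : ℕ → V4 → V4
  | 0, (a, b, c, d) => (a - (2 * a - b), b, c, d)
  | 1, (a, b, c, d) => (a, b - (-a + 2 * b - 2 * c), c, d)
  | 2, (a, b, c, d) => (a, b, c - (-b + 2 * c - d), d)
  | _, (a, b, c, d) => (a, b, c, d - (-c + 2 * d))

/-- A reflection after a map. -/
def reflM (i : ℕ) (M : M4) : M4 := (refl4 i M.1, refl4 i M.2.1, refl4 i M.2.2.1, refl4 i M.2.2.2)

/-- The identity. -/
def idM : M4 := ((1, 0, 0, 0), (0, 1, 0, 0), (0, 0, 1, 0), (0, 0, 0, 1))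

/-- A digit. -/
def dig (c s w : ℕ) : ℕ := (c >>> s) % 2 ^ w

/-- A column of an entry. -/
def colOf (c j : ℕ) : V4 :=
  ((dig c (16 * j) 4 : ℤ) - 8, (dig c (16 * j + 4) 4 : ℤ) - 8, (dig c (16 * j + 8) 4 : ℤ) - 8,
   (dig c (16 * j + 12) 4 : ℤ) - 8)

/-- The matrix of an entry. -/
def matOf (c : ℕ) : M4 := (colOf c 0, colOf c 1, colOf c 2, colOf c 3)

/-- The index of the product with a reflection. -/
def nextOf (c i : ℕ) : ℕ := dig c (64 + 11 * i) 11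

/-- The kind of an entry. -/
def kindOf (c : ℕ) : ℕ := dig c 108 3

/-- The vector of the certificate. -/
def xOf (c : ℕ) : V4 :=
  ((dig c 111 2 : ℤ) - 1, (dig c 113 2 : ℤ) - 1, (dig c 115 2 : ℤ) - 1, (dig c 117 2 : ℤ) - 1)

/-- The root of the certificate. -/
def bOf (c : ℕ) : ℕ := dig c 119 6

/-- The multiplier of the certificate. -/
def kOf (c : ℕ) : ℕ := dig c 125 2

/-- Look up an entry. -/
def getW (k : ℕ) : ℕ := (weylData.getD (k / 32) []).getD (k % 32) ((weylData.getD 0 []).getD 0 0)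

/-- The five quartics, by lower coefficients. -/
def polyC : ℕ → ℤ × ℤ × ℤ × ℤ
  | 1 => (-1, 0, 0, 0)
  | 2 => (1, 0, 0, 0)
  | 3 => (1, 0, -1, 0)
  | 4 => (-1, -1, 0, 1)
  | _ => (-1, 1, 0, -1)

/-- The quartic annihilates a vector. -/
def chkPoly (M : M4) (c : ℤ × ℤ × ℤ × ℤ) (v : V4) : Bool :=
  let v1 := app M v
  let v2 := app M v1
  let v3 := app M v2
  let v4 := app M v3
  decide (comb 1 (comb c.1 v c.2.1 v1) 1 (comb 1 (comb c.2.2.1 v2 c.2.2.2 v3) 1 v4) = (0, 0, 0, 0))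

/-- Minors and determinant. -/
def det4 (p q r s : V4) : ℤ :=
  let m01 := r.1 * s.2.1 - r.2.1 * s.1
  let m02 := r.1 * s.2.2.1 - r.2.2.1 * s.1
  let m03 := r.1 * s.2.2.2 - r.2.2.2 * s.1
  let m12 := r.2.1 * s.2.2.1 - r.2.2.1 * s.2.1
  let m13 := r.2.1 * s.2.2.2 - r.2.2.2 * s.2.1
  let m23 := r.2.2.1 * s.2.2.2 - r.2.2.2 * s.2.2.1
  p.1 * (q.2.1 * m23 - q.2.2.1 * m13 + q.2.2.2 * m12) -
    p.2.1 * (q.1 * m23 - q.2.2.1 * m03 + q.2.2.2 * m02) +
    p.2.2.1 * (q.1 * m13 - q.2.1 * m03 + q.2.2.2 * m01) -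
    p.2.2.2 * (q.1 * m12 - q.2.1 * m02 + q.2.2.1 * m01)

/-- A power of two up to eight, up to sign. -/
def smallPow (n : ℤ) : Bool := n.natAbs == 1 || n.natAbs == 2 || n.natAbs == 4 || n.natAbs == 8

/-- The orbit of a root spans a sublattice of index a power of two. -/
def chkDet (M : M4) (v : V4) : Bool :=
  let v1 := app M v
  let v2 := app M v1
  let v3 := app M v2
  smallPow (det4 v v1 v2 v3)

/-- The checks on one entry. -/
def chkEntry (c : ℕ) : Bool :=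
  let M := matOf c
  let kd := kindOf c
  ((List.range 4).all fun i => decide (matOf (getW (nextOf c i)) = reflM i M)) &&
    (decide (1 ≤ kd) && decide (kd ≤ 5)) &&
    (chkPoly M (polyC kd) (1, 0, 0, 0) && chkPoly M (polyC kd) (0, 1, 0, 0) &&
      chkPoly M (polyC kd) (0, 0, 1, 0) && chkPoly M (polyC kd) (0, 0, 0, 1)) &&
    (decide (M = idM) ||
      (decide (1 ≤ kOf c) && decide (kOf c ≤ 3) && decide (bOf c < 48) &&
        decide (comb 1 (app M (xOf c)) (-1) (xOf c) = comb (kOf c) (rootV.getD (bOf c) (0, 0, 0, 0)) 0 (0, 0, 0, 0)))) &&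
    (!(kd == 2 || kd == 3) || rootV.all fun v => chkDet M v)

end Cfsg.Agent.H48.F4Graph
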